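import Cfsg.Agent.J4NonLocal.PGLMax.El
import Cfsg.Agent.J4NonLocal.PGLMax.Data.Elev
import Cfsg.Agent.J4PGL.Main
import Cfsg.Agent.J4Maximal.Base

/-!
The finite checks for the normaliser of an element of order 11 over the subgroup PGL(2,23).
-/

set_option autoImplicit false
set_option maxRecDepth 20000
set_option Elab.async false

namespace Cfsg.Lib.J4NonLocal.PGLMax

open Cfsg.Lib.J4Cert Cfsg.Lib.J4Maximal

/-- The letters that normalise the element of order 11, with their exponents. -/
def elevExp : List (ℕ × ℕ) := [(1, 1), (2, 10), (3, 1), (4, 1), (5, 3), (6, 10), (7, 10)]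

theorem head_ok : leq (letA pm 0) J4PGL.muM = true ∧ leq (letA pm 1) J4PGL.mtM = true ∧
    leq (letA pm 2) J4PGL.mwM = true ∧ leq (letA pm 9) J4Eleven.mX = true := by decide +kernel

theorem a_eq_ok : sameW pm [3] [1, 1] = true := by decide +kernel
theorem a_conj_ok : sameW pm [3, 8] [8, 9] = true := by decide +kernel

theorem elev_ok : (elevExp.all fun e =>
    sameW pm ([e.1] ++ (List.replicate e.2 [3]).flatten) ([3] ++ [e.1])) = true := by decide +kernel

theorem elev_shape : elev.shapeOK ptabs 10 = true := by decide +kernel
theorem elev_keys : elev.keysOK ptabs = true := by decide +kernel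
theorem elev_crt : elev.crtOK ptabs 10 4 = true := by decide +kernel
theorem elev_low : ((elev.fix ++ elev.lef ++ elev.rig).all fun w => w.all fun k => Nat.blt k 4) = true := by
  decide +kernel
theorem elev_in : ([elev.fix, elev.lef, elev.reps, elev.rig].all fun L => L.all fun w =>
    w.all fun k => (elevExp.map Prod.fst).elem k) = true := by decide +kernel
theorem elev_count : elev.fix.length = 44 ∧ elev.ents.length = 55 ∧ elev.zeros.length = 1 := by decide +kernel

/-- The exact row of the prime 23. -/
def r23p : Row := ⟨23, [(2, 1), (11, 1), (23, 1)], 506, 0, 23⟩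

/-- The cofactor of the subgroup PGL(2,23). -/
def fkP : List (ℕ × ℕ) := [(2, 17), (3, 2), (5, 1), (7, 1), (11, 2), (29, 1), (31, 1), (37, 1), (43, 1)]

/-- The possible indices that are prime to 11 and congruent to 1 modulo 11 after the normaliser of order 44. -/
theorem survivors_ok : ((survivors 12144 fkP [r5 1, r23p, r7 1, r29, r31 1, r37, r43 0]).filter fun k =>
    (12144 * k) % 121 != 0 && (12144 * k) % 44 == 0 && (12144 * k / 44) % 11 == 1) = [1] := by decide +kernel

end Cfsg.Lib.J4NonLocal.PGLMax
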