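import Cfsg.Agent.J4NonLocal.Pool
import Cfsg.Agent.J4NonLocal.PGLMax.Data.Tables
import Cfsg.Agent.J4NonLocal.PGLMax.Data.Pool

/-!
The elements used for a subgroup PGL(2,23) and their matrices.
-/

set_option autoImplicit false
set_option maxRecDepth 20000
set_option Elab.async false

namespace Cfsg.Lib.J4NonLocal.PGLMax

open Cfsg Cfsg.Lib.J4Cert Cfsg.Lib.J4NonLocal

/-- The matrices by index. -/
def nd (k : ℕ) : List ℕ := bif Nat.blt k 548 then J4Eleven.em k else ndTab.get (k - 548)

/-- The matrices of the pool. -/
def pm : List (List ℕ) := pnode.map nd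

theorem nd_low : ∀ l < 4, nd l = letM l := by decide +kernel
theorem prog0_ok : progOK nd 548 ndProg0 = true := by decide +kernel
theorem prog1_ok : progOK nd 628 ndProg1 = true := by decide +kernel
theorem prog2_ok : progOK nd 708 ndProg2 = true := by decide +kernel
theorem tabs_ok : poolOK pm ptabs = true := by decide +kernel
theorem pnode_lt : (pnode.all fun j => Nat.blt j 727) = true := by decide +kernel
theorem pm_length : pm.length = 10 := by decide +kernel

theorem nd_mem : ∀ j < 727, ∃ g, MOK g (nd j) := by
  have h0 : ∀ j < 548, ∃ g, MOK g (nd j) := fun j hj => by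
    unfold nd
    rw [show Nat.blt j 548 = true by simpa using hj]
    exact J4Eleven.em_mem j hj
  have h1 : ∀ j < 628, ∃ g, MOK g (nd j) := progOK_sound nd_low ndProg0 548 prog0_ok h0
  have h2 : ∀ j < 708, ∃ g, MOK g (nd j) := progOK_sound nd_low ndProg1 628 prog1_ok h1
  have h3 : ∀ j < 727, ∃ g, MOK g (nd j) := progOK_sound nd_low ndProg2 708 prog2_ok h2
  exact h3

/-- The elements. -/
noncomputable def P : Pool pm ptabs := (exists_pool (mem_map_nd nd_mem pnode_lt) tabs_ok).some

end Cfsg.Lib.J4NonLocal.PGLMax
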