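import Cfsg.Agent.J4NonLocal.PGLMax.Checks
import Cfsg.Agent.J4NonLocal.Rows
import Cfsg.Agent.J4NonLocal.Normal
import Cfsg.Agent.J4NonLocal.Eleventh

/-!
A subgroup PGL(2,23) of the fourth Janko group is maximal.
-/

set_option autoImplicit false
set_option maxRecDepth 20000
set_option synthInstance.maxSize 4000
set_option linter.style.haveILetI false

namespace Cfsg.Lib.J4NonLocal.PGLMax

open Cfsg Cfsg.Lib.J4Cert Cfsg.Lib.J4Maximal Subgroup

attribute [local irreducible] mB tabs4 vt pm ptabs elev J4PGL.muM J4PGL.mtM J4PGL.mwM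

theorem el_head : P.el 0 = J4PGL.ju ∧ P.el 1 = J4PGL.jt ∧ P.el 2 = J4PGL.jw ∧ P.el 9 = J4Eleven.eX := by
  obtain ⟨h0, h1, h2, h3⟩ := head_ok
  exact ⟨J4Eleven.eq_of_leq (P.ok 0) J4PGL.u_mok h0, J4Eleven.eq_of_leq (P.ok 1) J4PGL.t_mok h1,
    J4Eleven.eq_of_leq (P.ok 2) J4PGL.w_mok h2, J4Eleven.eq_of_leq (P.ok 9) J4Eleven.eX_ok h3⟩

theorem low_mem {K : Subgroup Spor.J4} (hu : J4PGL.ju ∈ K) (ht : J4PGL.jt ∈ K) (hw : J4PGL.jw ∈ K) :
    ∀ k < 4, P.el k ∈ K := fun k hk => by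
  obtain ⟨h0, h1, h2, -⟩ := el_head
  interval_cases k
  · rwa [h0]
  · rwa [h1]
  · rwa [h2]
  · rw [← P.ev_single 3, P.ev_eq a_eq_ok]
    refine P.ev_mem fun j hj => ?_
    simp only [List.mem_cons, List.not_mem_nil, or_false, or_self] at hj
    subst hj
    rwa [h1]

/-- The element of order 11. -/
noncomputable def a23 : Spor.J4 := P.ev [3]

theorem a23_conj : a23 * P.el 8 = P.el 8 * J4Eleven.eX := by
  have h := P.ev_eq a_conj_ok
  simp only [P.ev_cons, P.ev_nil, mul_one, el_head.2.2.2] at h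
  rw [a23, P.ev_single]
  exact h

theorem a23_order : orderOf a23 = 11 := by
  have h : MulAut.conj (P.el 8) J4Eleven.eX = a23 := by
    rw [MulAut.conj_apply, ← a23_conj, mul_inv_cancel_right]
  rw [← h, (MulAut.conj (P.el 8)).orderOf_eq]
  exact J4Eleven.two_classes.1

variable (E : Env)
include E

theorem inf_eleven {H : Subgroup Spor.J4} (hH : ∀ k < 4, P.el k ∈ H) (hne : H ≠ ⊤) :
    Nat.card ↥(H ⊓ normalizer (zpowers a23 : Set Spor.J4)) = 44 := by
  haveI := finite_J4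
  haveI : Fact (Nat.Prime 11) := ⟨by norm_num⟩
  have hc : Nat.card ↥(centralizer ({a23} : Set Spor.J4)) ≤ 242 := by
    rw [card_cent_conj a23_conj]
    exact E.centX
  have hN := (card_normalizer_zpowers_le a23_order).trans (Nat.mul_le_mul_left (11 - 1) hc)
  obtain ⟨h1, h2, h3⟩ := elev_count
  unfold a23 at hN ⊢
  have h := elev.forced P (nM := 4) (by rw [pm_length]; exact elev_shape) elev_keys
    (by rw [pm_length]; exact elev_crt) elev_low (inside_of P elev (P.normalizes elev_ok) elev_in)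
    (by rw [h1, h2]; exact hN) (H := H) hH (E.not_big hne)
  rw [h.1, h1, h3]

theorem isCoatom_of {K : Subgroup Spor.J4} (hu : J4PGL.ju ∈ K) (ht : J4PGL.jt ∈ K) (hw : J4PGL.jw ∈ K)
    (hK : Nat.card K = 12144) : IsCoatom K := by
  classical
  haveI := finite_J4
  haveI : Fact (Nat.Prime 11) := ⟨by norm_num⟩
  haveI : Fact (Nat.Prime 23) := ⟨by norm_num⟩
  have hKne : K ≠ ⊤ := fun e => by
    rw [e, card_top, E.card] at hK
    exact absurd hK (by decide)
  refine ⟨hKne, fun M hM => ?_⟩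
  by_contra hne
  have hMg : ∀ k < 4, P.el k ∈ M := low_mem (hM.le hu) (hM.le ht) (hM.le hw)
  obtain ⟨U, hU⟩ := exists_sylow_le (q := 23) (M := K)
    (E.part (n := 1) (by norm_num) (by decide +kernel) (by decide +kernel)) (by rw [hK]; norm_num)
  have hUc := E.sylow_card (n := 1) (by decide +kernel) (by decide +kernel) U
  have hN : Nat.card ↥(normalizer ((U : Subgroup Spor.J4) : Set Spor.J4)) = 506 := E.norm 23 1 506 (by simp) U hUc
  have hlow : Nat.card ↥(K ⊓ normalizer ((U : Subgroup Spor.J4) : Set Spor.J4)) = 506 :=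
    inf_norm_forced hK U hU (nf := (r23 1).nf) (by simp [r23]; norm_num) (hN.trans (by decide)) hUc
      (v := 506) (by decide +kernel)
  have he : Nat.card ↥(M ⊓ normalizer ((U : Subgroup Spor.J4) : Set Spor.J4)) = 506 :=
    Nat.dvd_antisymm (hN ▸ card_dvd_of_le inf_le_right) (hlow ▸ low_of_le hM.le U)
  have s23 : r23p.Sound (Nat.card M) :=
    sound_exact (q := 23) U (hU.trans hM.le) (hUc.trans (by decide)) (he.trans (by decide)) (by decide) rfl (mod_q M)
  have ha : a23 ∈ M := by rw [a23, P.ev_single]; exact hMg 3 (by norm_num)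
  obtain ⟨hn, hd, hm⟩ := cyclic_count (p := 11) a23_order ha (inf_eleven E hMg hne) (by norm_num)
  obtain ⟨k, hk, hMk⟩ := exists_index hM.le hK (fk := fkP) (by simp [fkP]; norm_num)
    (by rw [E.card]; decide +kernel) (rows := [r5 1, r23p, r7 1, r29, r31 1, r37, r43 0]) (by
      intro r hr
      simp only [List.mem_cons, List.not_mem_nil, or_false] at hr
      rcases hr with rfl | rfl | rfl | rfl | rfl | rfl | rfl
      exacts [⟨by simp [r5]; norm_num, E.sound5 M⟩, ⟨by simp [r23p]; norm_num, s23⟩,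
        ⟨by simp [r7]; norm_num, E.sound7 M⟩, ⟨by simp [r29]; norm_num, E.sound29 M⟩,
        ⟨by simp [r31]; norm_num, E.sound31 M⟩, ⟨by simp [r37]; norm_num, E.sound37 M⟩,
        ⟨by simp [r43]; norm_num, E.sound43 M⟩])
  rw [hMk] at hn hd hm
  have hf := survivors_ok ▸ List.mem_filter.mpr ⟨hk, by
    simp only [Bool.and_eq_true, bne_iff_ne, beq_iff_eq, ne_eq, ← Nat.dvd_iff_mod_eq_zero]
    exact ⟨⟨hn, hd⟩, hm⟩⟩
  rw [List.mem_singleton] at hf
  subst hf
  exact hM.ne' (eq_of_index_one hM.le hK hMk)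

theorem exists_maximal : ∃ M : Subgroup Spor.J4, IsCoatom M ∧
    Nonempty (↥M ≃* GL (Fin 2) (ZMod 23) ⧸ Subgroup.center (GL (Fin 2) (ZMod 23))) := by
  obtain ⟨K, hu, ht, hw, hK, he⟩ := J4PGL.exists_pgl_mem
  exact ⟨K, isCoatom_of E hu ht hw hK, he⟩

end Cfsg.Lib.J4NonLocal.PGLMax
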